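import Cfsg.Agent.H750.RM.Two

/-!
# S3849, `G₂(q)`: the toral 2-group (helper558)

`CenTwo p S` for `S = G₂(q)`, `p` odd, after helper750 (`cen_split`); the only new point is the minimal rank of the
elements of order prime to `6 p` on the adjoint module of `G₂`.
-/

set_option autoImplicit false
set_option linter.unusedSectionVars false

namespace Cfsg.Agent.H558.RM

open CoxeterSystem Cfsg Cfsg.Lie Cfsg.Lie.ChevalleyDatum
open Cfsg.Agent.ChevalleyStructure Cfsg.Agent.ChevalleyStructure.Elts Cfsg.Agent.ChevalleyStructure.CoxeterGeom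
  Cfsg.Agent.ChevalleyStructure.CoxeterGeomTypes Cfsg.Agent.ChevalleyStructure.NPerm
open Cfsg.Agent.Tits.Roots Cfsg.Agent.Tits.Core Cfsg.Agent.Nodes Cfsg.Agent.Nodes.Reps Cfsg.Agent.Nodes.BNOf
  Cfsg.Agent.Nodes.RGDChev Cfsg.Agent.Nodes.Bruhat Cfsg.Agent.Nodes.NormalForm
open Cfsg.Agent.KFacts.RgdField Cfsg.Agent.KFacts.RgdChevCoord
open Cfsg.Agent.BpExc Cfsg.Agent.BpExc.TorCent Cfsg.Agent.BpExc.TorChev Cfsg.Agent.BpExc.Tow
  Cfsg.Agent.BpExc.TowChev Cfsg.Agent.BpExc.Fr Cfsg.Agent.BpExc.Pair Cfsg.Agent.BpExc.LangFr Cfsg.Agent.GpExc.Field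
  Cfsg.Agent.BpExc.TorAll
open Cfsg.Agent.H469.Exc Cfsg.Agent.H469.Exc.SigFr
open Cfsg.Agent.Nodes.RGDFoldSL
open Cfsg.Agent.ChevalleyStructure.SL2Hom (up lo mem_closure_SL2)
open Cfsg.Agent.H167.EX Cfsg.Agent.H795.LangT Cfsg.Agent.H129.TorusChar Cfsg.Agent.H129.TorusUntw
open Cfsg.Agent.H553.ExtRed Cfsg.Agent.H988.CPi Cfsg.Agent.H795.Core Cfsg.Agent.H720.TwFr Cfsg.Agent.H554.BS
open Cfsg.Agent.H566.OmFE
open scoped commutatorElement Pointwise

open Cfsg.Agent.H750.RM (CenTwo)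
open Module

universe u v w

variable {D : ChevalleyDatum} {l : ℕ} {M : CoxeterMatrix (Fin l)} (hp : IsType D l M)

/-- elements of order prime to `6 p` move at least nine dimensions of the adjoint module -/
def Nine (D : ChevalleyDatum) (k : Type u) [Field k] (p : ℕ) : Prop :=
  ∀ {g : ↥(D.group k)} {N : ℕ}, g ^ N = 1 → N.Coprime 6 → N.Coprime p → g ≠ 1 →
    9 ≤ finrank k (LinearMap.range (rho D k g - 1))

section sq

variable {k : Type u} [Field k]

/-- **Step 1.** -/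
theorem sq_comm_nine [IsAlgClosed k] {p : ℕ} [Fact p.Prime] [CharP k p] (hc : Nine D k p) {x : ↥(D.group k)} (hx4 : x ^ 4 = 1)
    (hx : finrank k (LinearMap.ker (rho D k x + 1)) ≤ 2) {N : Subgroup ↥(D.group k)} {m : ℕ}
    (hab : ∀ a ∈ N, ∀ b ∈ N, a * b = b * a) (hN : ∀ a ∈ N, x * a * x⁻¹ ∈ N) (hm : ∀ a ∈ N, a ^ m = 1)
    (h6 : m.Coprime 6) (hmp : m.Coprime p) {n : ↥(D.group k)} (hn : n ∈ N) : x ^ 2 * n = n * x ^ 2 := by
  have hN2 : ∀ a ∈ N, x ^ 2 * a * (x ^ 2)⁻¹ ∈ N := by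
    intro a ha
    have := hN _ (hN a ha)
    have e : x ^ 2 * a * (x ^ 2)⁻¹ = x * (x * a * x⁻¹) * x⁻¹ := by rw [pow_two]; group
    rwa [e]
  set a := x ^ 2 * n * (x ^ 2)⁻¹ * n⁻¹ with ha
  set b := x * a * x⁻¹ with hb
  have haN : a ∈ N := mul_mem (hN2 n hn) (inv_mem hn)
  have hbN : b ∈ N := hN a haN
  have hodd : Odd m := by
    rw [Nat.odd_iff]
    by_contra h
    have h2 : 2 ∣ m := Nat.dvd_of_mod_eq_zero (by omega)
    have := Nat.dvd_gcd h2 (show 2 ∣ 6 by norm_num)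
    rw [h6] at this
    exact absurd this (by norm_num)
  have hmk : (m : k) ≠ 0 := by
    intro h
    rw [CharP.cast_eq_zero_iff k p] at h
    have h1 := Nat.dvd_gcd h (dvd_refl p)
    rw [hmp] at h1
    exact (Fact.out : p.Prime).one_lt.ne' (Nat.dvd_one.1 h1)
  have hxb : x * b * x⁻¹ = a⁻¹ := by
    have e1 : x * b * x⁻¹ = x ^ 4 * n * (x ^ 4)⁻¹ * (x ^ 2 * n * (x ^ 2)⁻¹)⁻¹ := by
      rw [hb, ha]; group
    rw [e1, hx4, one_mul, inv_one, mul_one, ha]
    group
  have hone : a = 1 := by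
    by_contra hne
    have h9 := hc (hm a haN) h6 hmp hne
    have h8 := Rot.finrank_range_le (a := rho D k a) (b := rho D k b) (x := rho D k x) hodd hmk
      (by rw [← map_pow, hx4, map_one]) (by rw [← map_pow, hm a haN, map_one])
      (by rw [← map_pow, hm b hbN, map_one])
      (by
        show rho D k a * rho D k b = rho D k b * rho D k a
        rw [← map_mul, ← map_mul, hab a haN b hbN])
      (fun v => by
        rw [← Module.End.mul_apply, ← Module.End.mul_apply, ← map_mul, ← map_mul]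
        congr 2
        rw [hb]; group)
      (fun v => by
        rw [← Module.End.mul_apply, ← Module.End.mul_apply, ← map_mul, ← map_mul]
        congr 2
        have h1 : x * b = a⁻¹ * x := by rw [← hxb]; group
        rw [mul_assoc, h1, mul_inv_cancel_left])
    omega
  have h1 : x ^ 2 * n * (x ^ 2)⁻¹ = n := by
    rw [← mul_inv_eq_one]; exact hone
  exact mul_inv_eq_iff_eq_mul.1 h1


end sq

/-- **The core.** -/
theorem cen_core_nine {k : Type u} [Field k] [IsAlgClosed k] (h2 : (2 : k) ≠ 0) (p : ℕ) [Fact p.Prime] [CharP k p]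
    (hk : LocFin k) (hc : Nine D k p) {L1 : List ℕ} {g : ℕ → ℕ} (K : Chk D L1 g)
    (hL1 : ∀ d ∈ L1, d < D.nroots) (hL0 : L1 ≠ []) (htwo : ∀ d ∈ L1, two D d = true) {i : k} (hi : i * i = -1)
    {S : Type v} [Group S] [Finite S] (f : S →* ↥(D.group k)) (hf : Function.Injective f) (z : ↥(D.group k))
    (hX : ∀ d ∈ L1, ∃ a, f a = z * xd hp i d * z⁻¹) : CenTwo p S := by
  have hi0 := i_ne_zero hi
  have hTab := TTab (k := k) hp
  let B : Subgroup S :=
    { carrier := {a | z⁻¹ * f a * z ∈ TT D k ∧ a ^ 4 = 1}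
      one_mem' := ⟨by rw [map_one, mul_one, inv_mul_cancel]; exact one_mem _, one_pow _⟩
      mul_mem' := by
        rintro a b ⟨ha, ha4⟩ ⟨hb, hb4⟩
        have hab : Commute a b := by
          have h1 := hTab _ ha _ hb
          apply hf
          rw [map_mul, map_mul]
          calc f a * f b = z * ((z⁻¹ * f a * z) * (z⁻¹ * f b * z)) * z⁻¹ := by group
            _ = z * ((z⁻¹ * f b * z) * (z⁻¹ * f a * z)) * z⁻¹ := by rw [h1]
            _ = f b * f a := by group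
        refine ⟨?_, by rw [hab.mul_pow, ha4, hb4, one_mul]⟩
        have e : z⁻¹ * f (a * b) * z = (z⁻¹ * f a * z) * (z⁻¹ * f b * z) := by rw [map_mul]; group
        rw [e]
        exact mul_mem ha hb
      inv_mem' := by
        rintro a ⟨ha, ha4⟩
        refine ⟨?_, by rw [inv_pow, ha4, inv_one]⟩
        have e : z⁻¹ * f a⁻¹ * z = (z⁻¹ * f a * z)⁻¹ := by rw [map_inv]; group
        rw [e]
        exact inv_mem ha }
  have hBmem : ∀ a, a ∈ B ↔ z⁻¹ * f a * z ∈ TT D k ∧ a ^ 4 = 1 := fun a => Iff.rfl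
  -- the elements of `X`
  have hXB : ∀ d ∈ L1, ∃ a ∈ B, f a = z * xd hp i d * z⁻¹ := by
    intro d hd
    obtain ⟨a, ha⟩ := hX d hd
    refine ⟨a, (hBmem a).2 ⟨?_, ?_⟩, ha⟩
    · rw [ha]
      have e : z⁻¹ * (z * xd hp i d * z⁻¹) * z = xd hp i d := by group
      rw [e]
      exact xd_mem hp hi0 d
    · apply hf
      rw [map_pow, ha, conj_pow, xd_four hp hi, mul_one, mul_inv_cancel, map_one]
  refine ⟨B, ?_, ?_, ?_⟩
  · intro a
    refine ⟨2, Subtype.ext ?_⟩
    have := ((hBmem a).1 a.2).2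
    rw [Subgroup.coe_pow]
    exact this
  · obtain ⟨d, hd⟩ := List.exists_mem_of_ne_nil L1 hL0
    obtain ⟨a, ha, hfa⟩ := hXB d hd
    intro hB
    rw [hB, Subgroup.mem_bot] at ha
    rw [ha, map_one] at hfa
    have h1 : xd hp i d = 1 := by
      have e : xd hp i d = z⁻¹ * (z * xd hp i d * z⁻¹) * z := by group
      rw [e, ← hfa]; group
    have h3 := ch_xd hp p hk hi0 (hL1 d hd) (hL1 d hd)
    rw [h1, ch_one hp p hk (hL1 d hd)] at h3
    have h4 : HMatDiagAll.expo D d d = 2 := by unfold HMatDiagAll.expo; rw [if_pos rfl]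
    rw [h4] at h3
    have h5 : i ^ (2 : ℤ) = i * i := by rw [show (2 : ℤ) = ((2 : ℕ) : ℤ) by norm_num, zpow_natCast, pow_two]
    rw [h5, hi] at h3
    apply h2
    linear_combination h3
  · intro A hab hA6 hn b hb a ha
    set m := Nat.card A with hm
    have hm0 : m ≠ 0 := Nat.card_pos.ne'
    have h6 : m.Coprime 6 := by
      rw [Nat.coprime_iff_gcd_eq_one]
      by_contra hne
      obtain ⟨t, ht, htd⟩ := Nat.exists_prime_and_dvd hne
      have h1 := hA6 t ht (htd.trans (Nat.gcd_dvd_left _ _))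
      have h2 : t ∣ 2 * 3 := htd.trans (Nat.gcd_dvd_right _ _)
      rcases (ht.dvd_mul).1 h2 with h2 | h2
      · exact h1.1 ((Nat.prime_dvd_prime_iff_eq ht Nat.prime_two).1 h2)
      · exact h1.2.1 ((Nat.prime_dvd_prime_iff_eq ht Nat.prime_three).1 h2)
    have hmp : m.Coprime p := by
      rw [Nat.coprime_comm, Nat.Prime.coprime_iff_not_dvd Fact.out]
      intro h
      exact (hA6 p Fact.out h).2.2 rfl
    have hodd : Odd m := Nat.coprime_two_right.1 (Nat.Coprime.coprime_dvd_right (by norm_num) h6)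
    -- the conjugate of `f A`
    let N : Subgroup ↥(D.group k) := (A.map f).map (MulAut.conj z⁻¹).toMonoidHom
    have hNmem : ∀ {x}, x ∈ N ↔ ∃ a ∈ A, z⁻¹ * f a * z = x := by
      intro x
      constructor
      · rintro ⟨_, ⟨a, ha, rfl⟩, rfl⟩
        refine ⟨a, ha, ?_⟩
        show z⁻¹ * f a * z = z⁻¹ * f a * z⁻¹⁻¹
        rw [inv_inv]
      · rintro ⟨a, ha, rfl⟩
        refine ⟨_, ⟨a, ha, rfl⟩, ?_⟩
        show z⁻¹ * f a * z⁻¹⁻¹ = z⁻¹ * f a * z
        rw [inv_inv]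
    have hNab : ∀ x ∈ N, ∀ y ∈ N, x * y = y * x := by
      intro x hx y hy
      obtain ⟨a, ha, rfl⟩ := hNmem.1 hx
      obtain ⟨b, hb, rfl⟩ := hNmem.1 hy
      calc z⁻¹ * f a * z * (z⁻¹ * f b * z) = z⁻¹ * f (a * b) * z := by rw [map_mul]; group
        _ = z⁻¹ * f (b * a) * z := by rw [hab a ha b hb]
        _ = _ := by rw [map_mul]; group
    have hNm : ∀ x ∈ N, x ^ m = 1 := by
      intro x hx
      obtain ⟨a, ha, rfl⟩ := hNmem.1 hx
      have h1 : (⟨a, ha⟩ : A) ^ m = 1 := pow_card_eq_one'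
      have h3 : a ^ m = 1 := congrArg Subtype.val h1
      have e : (z⁻¹ * f a * z) ^ m = z⁻¹ * (f a) ^ m * z := by
        have := conj_pow (i := m) (a := z⁻¹) (b := f a)
        rwa [inv_inv] at this
      rw [e, ← map_pow, h3, map_one, mul_one, inv_mul_cancel]
    have hsq : ∀ d ∈ L1, ∀ n ∈ N, xd hp i d ^ 2 * n = n * xd hp i d ^ 2 := by
      intro d hd n hnN
      refine sq_comm_nine (p := p) hc (xd_four hp hi d) (ker_xd hp h2 hi (hL1 d hd) (htwo d hd)) hNab ?_ hNm h6 hmp hnN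
      intro x hx
      obtain ⟨a, ha, rfl⟩ := hNmem.1 hx
      obtain ⟨c, hcB, hfc⟩ := hXB d hd
      have h1 := (Subgroup.mem_normalizer_iff.1 (hn hcB) a).1 ha
      refine hNmem.2 ⟨_, h1, ?_⟩
      rw [map_mul, map_mul, map_inv, hfc]
      group
    have hT : ∀ a ∈ A, z⁻¹ * f a * z ∈ TT D k := by
      intro a ha
      refine mem_TT_of_sq hp h2 p hk K hL1 hi hodd (hNm _ (hNmem.2 ⟨a, ha, rfl⟩)) fun d hd => ?_
      exact hsq d hd _ (hNmem.2 ⟨a, ha, rfl⟩)
    have h1 := hTab _ ((hBmem b).1 hb).1 _ (hT a ha)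
    apply hf
    rw [map_mul, map_mul]
    calc f b * f a = z * ((z⁻¹ * f b * z) * (z⁻¹ * f a * z)) * z⁻¹ := by group
      _ = z * ((z⁻¹ * f a * z) * (z⁻¹ * f b * z)) * z⁻¹ := by rw [h1]
      _ = f a * f b := by group

/-- **the untwisted groups** -/
theorem cen_split_nine {F : Type} [Field F] [Fintype F] {p : ℕ} (hpp : p.Prime) [hFp : CharP F p] (hp2 : p ≠ 2)
    {S : Type v} [Group S] [Finite S] (hS : Nonempty (S ≃* D.group F)) (hc : ∀ [Fact p.Prime] [CharP (AlgebraicClosure F) p] (_ : LocFin (AlgebraicClosure F)),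
    Nine D (AlgebraicClosure F) p) {L0 FF : List ℕ}
    {g : ℕ → ℕ} (K : Chk D L0 g) (hL0 : ∀ s ∈ L0, s < D.nroots) (hL0' : L0 ≠ []) (htwo : ∀ d ∈ L0, two D d = true)
    (hFF : ∀ s ∈ FF, s < D.nroots) (hrho : ∀ i : Fin l, rhoL D l FF (sr i) = -sr i)
    (hdata : ∀ [Fact p.Prime] [CharP (AlgebraicClosure F) p] (_ : LocFin (AlgebraicClosure F)) (e : ℕ) (_ : 0 < e)
      (_ : Fintype.card F = p ^ e) (_ : (2 : AlgebraicClosure F) ≠ 0) (i : AlgebraicClosure F) (_ : i * i = -1),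
      H1 hp p e (algebraMap F (AlgebraicClosure F)) i L0) : CenTwo p S := by
  have := Fact.mk hpp
  obtain ⟨p', e, hp', hpF', hpk', he, hq, hk⟩ := exists_closure (F := F) rfl
  have hpe : p' = p := CharP.eq F hpF' hFp
  subst hpe
  set k := AlgebraicClosure F with hkdef
  have h2 : (2 : k) ≠ 0 := by
    intro h
    have h1 : p' ∣ 2 := (CharP.cast_eq_zero_iff k p' 2).1 (by exact_mod_cast h)
    exact hp2 ((Nat.prime_dvd_prime_iff_eq hpp Nat.prime_two).1 h1)
  obtain ⟨i, hi⟩ := exists_i k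
  have hH1 := hdata hk e he hq h2 i hi
  have hodd : Odd (p' ^ e) := (hpp.eq_two_or_odd'.resolve_left hp2).pow
  obtain ⟨ε, hε, h4⟩ := exists_eps hodd
  -- the list of reflections
  obtain ⟨L, hL, hLr⟩ : ∃ L : List ℕ, (∀ s ∈ L, s < D.nroots) ∧ ∀ x, rhoL D l L x = ε • x := by
    rcases hε with rfl | rfl
    · exact ⟨[], fun s hs => absurd hs List.not_mem_nil, fun x => (one_smul ℤ x).symm⟩
    · refine ⟨FF, hFF, fun x => ?_⟩
      have h1 := addHom_ext (f := rhoM D l FF) (g := AddMonoidHom.mk' (fun x => (-1 : ℤ) • x) (fun x y => smul_add _ x y))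
        (fun i => by
          rw [rhoM_apply, hrho]
          show -sr i = (-1 : ℤ) • sr i
          rw [neg_smul, one_smul]) x
      exact h1
  obtain ⟨z, hz, hiff⟩ := exists_twist_all hp hk he (isFrob_phi (D := D) (k := k) (p := p') (e := e))
    (fr_phi hp M.toCoxeterSystem) hL
  let f0 := algebraMap F k
  obtain ⟨φ⟩ := hS
  let f : S →* ↥(D.group k) := (emb hp.inList f0).comp φ.toMonoidHom
  have hf : Function.Injective f := (emb_injective hp.inList f0).comp φ.injective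
  refine cen_core_nine hp h2 p' hk (hc hk) K hL0 hL0' htwo hi f hf z fun s hs => ?_
  have h1 := hH1 ε hε (by rw [← Nat.cast_pow]; exact h4) z (fun t ht => by
    rw [hz]; exact (cX_wL hp hk p' L hL t ht).1) (fun t ht x => by
    rw [hz, (cX_wL hp hk p' L hL t ht).2, hLr]) s hs (hL0 s hs)
  obtain ⟨y, hy⟩ := h1
  refine ⟨φ.symm y, ?_⟩
  rw [xd_lt hp (hL0 s hs), ← hy]
  show emb hp.inList f0 (φ (φ.symm y)) = _
  rw [MulEquiv.apply_symm_apply]


/-! ### the minimal rank for `G₂` -/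

/-- the determinant of two roots -/
def dt (a b : ℕ) : ℤ := vec chevG2 2 a 0 * vec chevG2 2 b 1 - vec chevG2 2 a 1 * vec chevG2 2 b 0

theorem dt_dvd : ∀ a < 12, ∀ b < 12, b ≠ a → b ≠ 11 - a → dt a b ≠ 0 ∧ (dt a b).natAbs ∣ 6 := by decide +kernel

theorem cramer (a b s : ℕ) : dt a b • vec chevG2 2 s = dt s b • vec chevG2 2 a + dt a s • vec chevG2 2 b := by
  ext i
  fin_cases i <;> simp only [dt, Pi.add_apply, Pi.smul_apply, smul_eq_mul] <;> simp only [Fin.zero_eta, Fin.mk_one] <;>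
    ring

open Classical in
/-- **At least nine nontrivial characters.** -/
theorem nine_le_G2 {k : Type u} [Field k] (p : ℕ) [Fact p.Prime] [CharP k p] (hk : LocFin k) {t : ↥(chevG2.group k)}
    (ht : t ∈ TT chevG2 k) {N : ℕ} (hN : t ^ N = 1) (h6 : N.Coprime 6) (hne : t ≠ 1) :
    9 ≤ ((Finset.range chevG2.nroots).filter fun s => ¬ ch RowsUntw.g2T (vec chevG2 2 s) t = 1).card := by
  have hMC := isMC_cX RowsUntw.g2T ht
  set φ := cX RowsUntw.g2T t with hφ
  have hφs : ∀ s < 12, ch RowsUntw.g2T (vec chevG2 2 s) t = φ (vec chevG2 2 s) := fun s hs =>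
    (cX_vec RowsUntw.g2T ht (r := s) hs).symm
  have hφN : ∀ v, φ v ^ N = 1 := fun v => by rw [hφ, ← cX_pow RowsUntw.g2T ht, hN, cX_one]
  by_contra hcon
  rw [not_le] at hcon
  -- four trivial roots
  have h12 : (Finset.range chevG2.nroots).card = 12 := by decide
  have h1 : ((Finset.range chevG2.nroots).filter fun s => ch RowsUntw.g2T (vec chevG2 2 s) t = 1).card +
      ((Finset.range chevG2.nroots).filter fun s => ¬ ch RowsUntw.g2T (vec chevG2 2 s) t = 1).card = 12 := by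
    rw [← h12, ← Finset.card_filter_add_card_filter_not (s := Finset.range chevG2.nroots)
      (p := fun s => ch RowsUntw.g2T (vec chevG2 2 s) t = 1)]
  have h4 : 2 < ((Finset.range chevG2.nroots).filter fun s => ch RowsUntw.g2T (vec chevG2 2 s) t = 1).card := by
    omega
  obtain ⟨a, ha, b, hb, hab, hab'⟩ : ∃ a ∈ ((Finset.range chevG2.nroots).filter
      fun s => ch RowsUntw.g2T (vec chevG2 2 s) t = 1), ∃ b ∈ ((Finset.range chevG2.nroots).filter
      fun s => ch RowsUntw.g2T (vec chevG2 2 s) t = 1), b ≠ a ∧ b ≠ 11 - a := by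
    obtain ⟨a, ha, b, hb, c, hc, hab, hac, hbc⟩ := Finset.two_lt_card.1 h4
    by_cases h5 : b = 11 - a
    · exact ⟨a, ha, c, hc, Ne.symm hac, fun h6 => hbc (h5.trans h6.symm)⟩
    · exact ⟨a, ha, b, hb, Ne.symm hab, h5⟩
  rw [Finset.mem_filter, Finset.mem_range] at ha hb
  obtain ⟨ha, ha1⟩ := ha
  obtain ⟨hb, hb1⟩ := hb
  obtain ⟨hd0, hd6⟩ := dt_dvd a ha b hb hab hab'
  rw [hφs a ha] at ha1
  rw [hφs b hb] at hb1
  apply hne
  refine eq_one_of_ch RowsUntw.g2T p hk ht fun s hs => ?_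
  rw [hφs s hs]
  have h2 : φ (dt a b • vec chevG2 2 s) = 1 := by
    rw [cramer, hMC.add, hMC.zsmul, hMC.zsmul, ha1, hb1, one_zpow, one_zpow, mul_one]
  rw [hMC.zsmul] at h2
  have h3 : φ (vec chevG2 2 s) ^ (dt a b).natAbs = 1 := by
    rcases Int.natAbs_eq (dt a b) with h | h
    · rw [h, zpow_natCast] at h2; exact h2
    · rw [h, zpow_neg, zpow_natCast, inv_eq_one] at h2; exact h2
  have h5 : orderOf (φ (vec chevG2 2 s)) ∣ 1 := by
    have h6' : Nat.Coprime N (dt a b).natAbs := Nat.Coprime.coprime_dvd_right hd6 h6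
    rw [← h6']
    exact Nat.dvd_gcd (orderOf_dvd_of_pow_eq_one (hφN _)) (orderOf_dvd_of_pow_eq_one h3)
  exact orderOf_eq_one_iff.1 (Nat.dvd_one.1 h5)

/-- **The minimal rank.** -/
theorem nine_G2 {k : Type u} [Field k] [IsAlgClosed k] (p : ℕ) [Fact p.Prime] [CharP k p] (hk : LocFin k) :
    Nine chevG2 k p := by
  classical
  intro g N hN h6 hNp hne
  have hp := RowsUntw.g2T
  have hN0 : N ≠ 0 := by rintro rfl; exact absurd h6 (by decide)
  obtain ⟨y, hy⟩ := H944.TorAnyChev.exists_conj_mem_TT hp p (hAlg_of_locFin hk p) hN0 hNp hN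
  have hyN : (y * g * y⁻¹) ^ N = 1 := by rw [conj_pow, hN, mul_one, mul_inv_cancel]
  have hy1 : y * g * y⁻¹ ≠ 1 := by
    intro h
    apply hne
    have h2 : g = y⁻¹ * (y * g * y⁻¹) * y := by group
    rw [h2, h, mul_one, inv_mul_cancel]
  refine le_trans ?_ (range_conj_le (g := y) (x := g))
  rw [rho_sub_one (H892.El.coe_TT hp (r := p) hk hy), finrank_diag]
  refine (nine_le_G2 p hk hy hyN h6 hy1).trans ?_
  rw [← Fintype.card_coe]
  refine Fintype.card_le_of_injective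
    (fun s => ⟨Sum.inr ⟨s.1, Finset.mem_range.1 (Finset.mem_filter.1 s.2).1⟩, ?_⟩) ?_
  · exact sub_ne_zero.2 (Finset.mem_filter.1 s.2).2
  · intro a b hab
    have h1 := congrArg Subtype.val hab
    have h2 := congrArg Fin.val (Sum.inr.inj h1)
    exact Subtype.ext h2

/-! ### the combinatorial conditions for `G₂` -/

theorem chkG2 : Chk chevG2 [6, 10] id where
  odd := by decide +kernel
  sep := by decide +kernel
  one := by decide +kernel
  lt := by decide +kernel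
  ort := by decide +kernel

theorem twoG2 : ∀ d ∈ [6, 10], two chevG2 d = true := by decide +kernel

theorem ltG2 : ∀ d ∈ [6, 10], d < chevG2.nroots := by decide +kernel

theorem ltFG2 : ∀ s ∈ [6, 9], s < chevG2.nroots := by decide +kernel

theorem rhoG2 : ∀ i : Fin 2, rhoL chevG2 2 [6, 9] (sr i) = -sr i := by decide +kernel

/-- **The toral 2-group of `G₂(q)`.** -/
theorem cen_g2 {F : Type} [Field F] [Fintype F] {p : ℕ} {S : Type v} [Group S] [Finite S] (hpp : p.Prime) (hp2 : p ≠ 2)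
    [hFp : CharP F p] (hS : Nonempty (S ≃* chevG2.group F)) : CenTwo p S :=
  cen_split_nine RowsUntw.g2T hpp hp2 hS (fun hk => nine_G2 p hk) chkG2 ltG2 (by decide) twoG2 ltFG2 rhoG2
    (fun hk e he hq h2 i hi => h1_odd RowsUntw.g2T hk _ he hq invC_G2 one_ne_zero (Or.inl rfl) (by norm_num) hi _)

end Cfsg.Agent.H558.RM
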