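import Cfsg.Agent.H565.NoMinExc
import Cfsg.Agent.H795.LangT

/-!
# The action of an element on a toral subgroup it normalises (helper558)

`exists_weyl` : `y` normalises `B`, `B` toral: there is an element `w` of the Weyl group describing the action of `y` on the
characters of `B`.  `comm_of_ell` : an odd order version for rank two: `y` commutes with an element of `B` of order prime to 3.
-/

set_option autoImplicit false
set_option linter.unusedSectionVars false

namespace Cfsg.Agent.H558.RM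

open CoxeterSystem Cfsg Cfsg.Lie Cfsg.Lie.ChevalleyDatum
open Cfsg.Agent.ChevalleyStructure Cfsg.Agent.ChevalleyStructure.Elts Cfsg.Agent.ChevalleyStructure.CoxeterGeom
  Cfsg.Agent.ChevalleyStructure.CoxeterGeomTypes Cfsg.Agent.ChevalleyStructure.NPerm
open Cfsg.Agent.Tits.Roots Cfsg.Agent.Tits.Core Cfsg.Agent.Nodes Cfsg.Agent.Nodes.Reps Cfsg.Agent.Nodes.BNOf
  Cfsg.Agent.Nodes.RGDChev Cfsg.Agent.Nodes.Bruhat
open Cfsg.Agent.KFacts.RgdField Cfsg.Agent.KFacts.RgdChevCoord Cfsg.Agent.BpExc.TorCent Cfsg.Agent.BpExc.TorChev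
open Cfsg.Agent.GpExc.Field Cfsg.Agent.BpExc.Tow Cfsg.Agent.BpExc.TowChev Cfsg.Agent.BpExc.Fr
  Cfsg.Agent.BpExc.LangFr Cfsg.Agent.H795.SetCent Cfsg.Agent.H795.SetTor Cfsg.Agent.H167.OP
open Cfsg.Agent.H129.TorusChar Cfsg.Agent.H795.LangT Cfsg.Agent.H565.NM

universe u

section Weyl

variable {D : ChevalleyDatum} {l : ℕ} {M : CoxeterMatrix (Fin l)} (hp : IsType D l M)
  (r : ℕ) [Fact r.Prime] {k : Type u} [Field k] [CharP k r] [IsAlgClosed k]

include hp r in
/-- **the Weyl group element** -/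
theorem exists_weyl (hk : LocFin k) {G : Type*} [Group G] [Finite G] {f : G →* ↥(D.group k)}
    {y : G} {B : Subgroup G} (hn : Nrm y B) {g : ↥(D.group k)} (hg : ∀ x ∈ B, g * f x * g⁻¹ ∈ TT D k) :
    ∃ w : M.Group, ∀ (m : ℕ), ∀ b ∈ B, ∀ x, cX hp (g * f (y ^ m * b * (y ^ m)⁻¹) * g⁻¹)
      (rep M.toCoxeterSystem hp.isCartan (w ^ m) x) = cX hp (g * f b * g⁻¹) x := by
  classical
  have hWf := finite_W hp (M.toCoxeterSystem)
  have H := tow hp M.toCoxeterSystem hk r
  have C : Coords M.toCoxeterSystem hp.isCartan (TL (Tj hp (k := k))) (nc hp k) (XL (Xj hp)) (xc hp) (ch hp) := by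
    rw [TL_eq hp hk, XL_eq hp hk]
    exact coordsL hp M.toCoxeterSystem hk r
  have hGt := GG_eq_top hp M.toCoxeterSystem hk
  set c := g * f y * g⁻¹ with hc
  obtain ⟨m, -, w, n, hn', hnk, -⟩ := exists_formZ H C (ι := B) (s := fun b => g * f b * g⁻¹)
    (t := fun b => g * f (y * b * y⁻¹) * g⁻¹) (c := c) (fun b => by
      rw [TL_eq hp hk]
      exact hg _ b.2) (fun b => by
      rw [TL_eq hp hk]
      exact hg _ (hn _ b.2)) (by rw [hGt]; exact Subgroup.mem_top c) (fun b => by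
      rw [hc, map_mul, map_mul, map_inv]
      group)
  refine ⟨w, fun m => ?_⟩
  induction m with
  | zero => intro b hb x; simp
  | succ m ih =>
    intro b hb x
    have h1 : y ^ m * b * (y ^ m)⁻¹ ∈ B := nrm_pow' hn m b hb
    have h2 : n * (g * f (y ^ m * b * (y ^ m)⁻¹) * g⁻¹) * n⁻¹ =
        g * f (y ^ (m + 1) * b * (y ^ (m + 1))⁻¹) * g⁻¹ := by
      have h3 : n * (g * f (y ^ m * b * (y ^ m)⁻¹) * g⁻¹) =
        (g * f (y * (y ^ m * b * (y ^ m)⁻¹) * y⁻¹) * g⁻¹) * n := hnk ⟨_, h1⟩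
      rw [h3, mul_inv_cancel_right]
      have e : y * (y ^ m * b * (y ^ m)⁻¹) * y⁻¹ = y ^ (m + 1) * b * (y ^ (m + 1))⁻¹ := by
        rw [pow_succ']; group
      rw [e]
    have h4 := cX_rp' hp hk hn' (hg _ h1) (rep M.toCoxeterSystem hp.isCartan (w ^ m) x)
    rw [h2, ih b hb x] at h4
    rw [pow_succ' w, rep_mul_apply]
    exact h4

end Weyl

/-! ### integral matrices of order three -/

theorem cube_one {d : ℤ} (h : d ^ 3 = 1) : d = 1 := by
  have h1 : d ∣ 1 := ⟨d ^ 2, by rw [← h]; ring⟩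
  rcases Int.isUnit_iff.1 (isUnit_of_dvd_one h1) with h2 | h2
  · exact h2
  · rw [h2] at h; norm_num at h

/-- an automorphism of `ℤ²` with `θ³ = 1` -/
theorem two_by_two (θ : (Fin 2 → ℤ) →ₗ[ℤ] (Fin 2 → ℤ)) (h3 : ∀ x, θ (θ (θ x)) = x) :
    (∀ x, θ x = x) ∨ ∀ x, θ (θ x) + θ x + x = 0 := by
  obtain ⟨a, ha⟩ : ∃ a, a = θ (Pi.single 0 1) 0 := ⟨_, rfl⟩
  obtain ⟨c, hc⟩ : ∃ c, c = θ (Pi.single 0 1) 1 := ⟨_, rfl⟩
  obtain ⟨b, hb⟩ : ∃ b, b = θ (Pi.single 1 1) 0 := ⟨_, rfl⟩
  obtain ⟨d, hd⟩ : ∃ d, d = θ (Pi.single 1 1) 1 := ⟨_, rfl⟩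
  have hθ : ∀ x : Fin 2 → ℤ, θ x 0 = a * x 0 + b * x 1 ∧ θ x 1 = c * x 0 + d * x 1 := by
    intro x
    have hx : x = x 0 • Pi.single 0 1 + x 1 • Pi.single 1 1 := by
      ext i; fin_cases i <;> simp
    have h : θ x = x 0 • θ (Pi.single 0 1) + x 1 • θ (Pi.single 1 1) := by
      conv_lhs => rw [hx]
      rw [map_add, map_smul, map_smul]
    rw [h]
    simp only [Pi.add_apply, Pi.smul_apply, smul_eq_mul]
    rw [← ha, ← hb, ← hc, ← hd]
    constructor <;> ring
  -- the entries of the cube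
  have e0 := h3 (Pi.single 0 1)
  have e1 := h3 (Pi.single 1 1)
  have e00 := congrFun e0 0
  have e01 := congrFun e0 1
  have e10 := congrFun e1 0
  have e11 := congrFun e1 1
  simp only [(hθ _).1, (hθ _).2] at e00 e01 e10 e11
  simp only [Pi.single_eq_same, ne_eq, one_ne_zero, zero_ne_one, not_false_eq_true, Pi.single_eq_of_ne, mul_one, mul_zero,
    add_zero, zero_add] at e00 e01 e10 e11
  -- the determinant
  have hdet : a * d - b * c = 1 := by
    apply cube_one
    have : (a * d - b * c) ^ 3 = (a * (a * a + b * c) + b * (c * a + d * c)) * (c * (a * b + b * d) + d * (c * b + d * d)) -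
        (c * (a * a + b * c) + d * (c * a + d * c)) * (a * (a * b + b * d) + b * (c * b + d * d)) := by ring
    rw [this, e00, e01, e10, e11]; norm_num
  -- the trace
  have t1 : (a + d + 1) * ((a + d - 1) * a - 1) = 0 := by linear_combination e00 + (2 * a + d) * hdet
  have t2 : (a + d + 1) * ((a + d - 1) * b) = 0 := by linear_combination e10 + b * hdet
  have t3 : (a + d + 1) * ((a + d - 1) * c) = 0 := by linear_combination e01 + c * hdet
  have t4 : (a + d + 1) * ((a + d - 1) * d - 1) = 0 := by linear_combination e11 + (a + 2 * d) * hdet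
  by_cases htr : a + d + 1 = 0
  · right
    intro x
    have hd' : d = -1 - a := by linear_combination htr
    ext i
    fin_cases i
    · show θ (θ x) 0 + θ x 0 + x 0 = 0
      rw [(hθ _).1, (hθ _).1, (hθ _).2]
      linear_combination (a * x 0 + b * x 1) * htr - x 0 * hdet
    · show θ (θ x) 1 + θ x 1 + x 1 = 0
      rw [(hθ _).2, (hθ _).1, (hθ _).2]
      linear_combination (c * x 0 + d * x 1) * htr - x 1 * hdet
  · left
    have s1 := (mul_eq_zero.1 t1).resolve_left htr
    have s2 := (mul_eq_zero.1 t2).resolve_left htr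
    have s3 := (mul_eq_zero.1 t3).resolve_left htr
    have s4 := (mul_eq_zero.1 t4).resolve_left htr
    have hne : a + d - 1 ≠ 0 := by
      intro h0; rw [h0] at s1; norm_num at s1
    have hb0 : b = 0 := (mul_eq_zero.1 s2).resolve_left hne
    have hc0 : c = 0 := (mul_eq_zero.1 s3).resolve_left hne
    have had : a = d := by
      have : (a + d - 1) * (a - d) = 0 := by linear_combination s1 - s4
      exact sub_eq_zero.1 ((mul_eq_zero.1 this).resolve_left hne)
    have ha1 : a = 1 := by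
      rw [hb0, zero_mul, sub_zero, ← had] at hdet
      rcases mul_self_eq_one_iff.1 hdet with h | h
      · exact h
      · rw [← had, h] at s1; norm_num at s1
    have hd1 : d = 1 := by rw [← had, ha1]
    intro x
    ext i
    fin_cases i
    · show θ x 0 = x 0
      rw [(hθ _).1, ha1, hb0]; ring
    · show θ x 1 = x 1
      rw [(hθ _).2, hc0, hd1]; ring

end Cfsg.Agent.H558.RM
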