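import Cfsg.Agent.H558.RM.GTwo
import Cfsg.Agent.H558.RM.WeylAct
import Cfsg.Agent.H750.RM.TwoRows
import Cfsg.Agent.H893.RM.Star
import Cfsg.Agent.H550.RV.R3Small
import Cfsg.Agent.H167.RV.RowsA
import Cfsg.Agent.H795.NotAbRows

/-!
# S3849 for `G₂(q)`, `p ∉ π` (helper558)

* `rowM_g2_two` : `2 ∈ π`, `3 ∉ π`;
* `rowM_g2_odd` : `2 ∉ π`.
-/

set_option autoImplicit false
set_option linter.unusedSectionVars false

namespace Cfsg.Agent.H558.RM

open CoxeterSystem Cfsg Cfsg.Lie Cfsg.Lie.ChevalleyDatum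
open Cfsg.Agent.ChevalleyStructure Cfsg.Agent.ChevalleyStructure.Elts Cfsg.Agent.ChevalleyStructure.CoxeterGeom
  Cfsg.Agent.ChevalleyStructure.CoxeterGeomTypes Cfsg.Agent.ChevalleyStructure.NPerm
open Cfsg.Agent.Tits.Roots Cfsg.Agent.Tits.Core Cfsg.Agent.Nodes Cfsg.Agent.Nodes.Reps Cfsg.Agent.Nodes.BNOf
  Cfsg.Agent.Nodes.RGDChev Cfsg.Agent.Nodes.Bruhat
open Cfsg.Agent.KFacts.RgdField Cfsg.Agent.KFacts.RgdChevCoord Cfsg.Agent.BpExc.TorCent Cfsg.Agent.BpExc.TorChev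
open Cfsg.Agent.GpExc.Field Cfsg.Agent.BpExc.Tow Cfsg.Agent.BpExc.TowChev Cfsg.Agent.BpExc.Fr
  Cfsg.Agent.BpExc.LangFr Cfsg.Agent.H795.SetCent Cfsg.Agent.H795.SetTor Cfsg.Agent.H167.OP
open Cfsg.Agent.H129.TorusChar Cfsg.Agent.H795.LangT Cfsg.Agent.H565.NM
open Cfsg.Agent.H988.CPi Cfsg.Agent.H571.DExt Cfsg.Agent.H571.RV Cfsg.Agent.H571.RM
open Cfsg.Agent.H959.RV (FTwo Two)
open Cfsg.Agent.BpExc.RowsUntw (g2T)
open Cfsg.Agent.H795.RowsA Cfsg.Agent.H565.T3
  Cfsg.Agent.H720.TwFr Cfsg.Agent.BpExc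

universe u

/-- **`y` a 3-element normalising `B`, commuting with an element of `B` of order prime to 3** -/
theorem comm_of_ell {k : Type u} [Field k] [IsAlgClosed k] (r : ℕ) [Fact r.Prime] [CharP k r] (hk : LocFin k)
    {G : Type*} [Group G] [Finite G] {f : G →* ↥(chevG2.group k)} (hf : Function.Injective f)
    {y : G} {B : Subgroup G} (hn : Nrm y B) {g : ↥(chevG2.group k)} (hg : ∀ x ∈ B, g * f x * g⁻¹ ∈ TT chevG2 k)
    {a : G} (ha : a ∈ B) {t : ℕ} (ht : t.Coprime 3) (hat : a ^ t = 1) (ha1 : a ≠ 1) (hya : y * a = a * y)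
    {j : ℕ} (hyj : y ^ 3 ^ j = 1) : ∀ b ∈ B, y * b = b * y := by
  obtain ⟨w, hw⟩ := exists_weyl g2T r hk hn hg
  have hWc : Nat.card CoxeterMatrix.G₂.Group = 12 := card_G2
  have hw12 : w ^ 12 = 1 := by rw [← hWc]; exact pow_card_eq_one'
  rcases two_by_two (rep CoxeterMatrix.G₂.toCoxeterSystem g2T.isCartan (w ^ 4)) (fun x => by
    rw [← rep_mul_apply, ← rep_mul_apply, ← pow_add, ← pow_add, hw12, map_one]; rfl) with h | h
  · -- `y ^ 4` centralises `B`
    intro b hb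
    have h4 : y ^ 4 * b * (y ^ 4)⁻¹ ∈ B := nrm_pow' hn 4 b hb
    have h1 : g * f (y ^ 4 * b * (y ^ 4)⁻¹) * g⁻¹ = g * f b * g⁻¹ := by
      refine cX_inj g2T (hg _ h4) (hg _ hb) fun i => ?_
      have h2 := hw 4 b hb (sr i)
      rw [h] at h2
      exact h2
    have h2 := hf (mul_left_cancel (mul_right_cancel h1))
    have h3 : y ^ 4 ∈ Subgroup.centralizer ({b} : Set G) := by
      rw [Subgroup.mem_centralizer_singleton_iff]
      conv_rhs => rw [← h2]
      group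
    have h5 : y ^ 3 ^ j ∈ Subgroup.centralizer ({b} : Set G) := by
      rw [hyj]; exact one_mem _
    have h6 := mem_of_pow_mem_coprime h3 h5 (Nat.Coprime.pow_right j (by norm_num))
    exact Subgroup.mem_centralizer_singleton_iff.1 h6
  · exfalso
    have hMC := isMC_cX g2T (hg a ha)
    have hfix : ∀ x, cX g2T (g * f a * g⁻¹)
        (rep CoxeterMatrix.G₂.toCoxeterSystem g2T.isCartan (w ^ 4) x) = cX g2T (g * f a * g⁻¹) x := by
      intro x
      have h1 := hw 4 a ha x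
      have h2 : y ^ 4 * a * (y ^ 4)⁻¹ = a := by
        have h3 : Commute (y ^ 4) a := Commute.pow_left hya 4
        rw [h3.eq, mul_inv_cancel_right]
      rwa [h2] at h1
    have hone : ∀ x, cX g2T (g * f a * g⁻¹) x = 1 := by
      intro x
      have h1 := congrArg (cX g2T (g * f a * g⁻¹)) (h x)
      rw [hMC.zero, hMC.add, hMC.add, hfix, hfix] at h1
      have h2 : cX g2T (g * f a * g⁻¹) x ^ 3 = 1 := by rw [← h1]; ring
      have h3 : cX g2T (g * f a * g⁻¹) x ^ t = 1 := by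
        rw [← cX_pow g2T (hg a ha), conj_pow, ← map_pow, hat, map_one, mul_one, mul_inv_cancel, cX_one]
      have h5 : orderOf (cX g2T (g * f a * g⁻¹) x) ∣ 1 := by
        rw [← Nat.coprime_iff_gcd_eq_one.1 ht]
        exact Nat.dvd_gcd (orderOf_dvd_of_pow_eq_one h3) (orderOf_dvd_of_pow_eq_one h2)
      exact orderOf_eq_one_iff.1 (Nat.dvd_one.1 h5)
    have h1 : g * f a * g⁻¹ = 1 := cX_inj g2T (hg a ha) (one_mem _) fun i => by rw [hone, cX_one]
    apply ha1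
    apply hf
    rw [map_one]
    have h2 : f a = g⁻¹ * (g * f a * g⁻¹) * g := by group
    rw [h2, h1]; group

variable {π : Set ℕ} {S : Type u} [Group S] [Finite S]

/-- the row for `r = 2` -/
theorem rowM_g2_two [IsSimpleGroup S] (hna : ¬ IsMulCommutative S) (h2 : 2 ∈ π) (h3 : 3 ∉ π) {p : ℕ} (hp : p.Prime)
    (hpπ : p ∉ π) {F : Type} [Field F] [Fintype F] [CharP F p] (hS : Nonempty (S ≃* chevG2.group F)) : RowM π S := by
  refine H750.RM.rowM_of_cenTwo hna h2 h3 hpπ (cen_g2 hp (H750.RM.ne_two h2 hpπ) hS) fun hD => Or.inr ?_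
  obtain ⟨H, hH⟩ := hD.cpi.1
  obtain ⟨e⟩ := hS
  have hF : Odd (Fintype.card F) := H556.GTwoNil.odd_card (p := p) h2 hp hpπ
  have hi : ¬ 2 ∣ H.index := hH.2 2 Nat.prime_two h2
  have hc3 : ¬ 3 ∣ Nat.card H := fun hd => h3 (hH.1 3 Nat.prime_three hd)
  obtain ⟨P⟩ : Nonempty (Sylow 2 H) := inferInstance
  obtain ⟨Q, ⟨e1⟩⟩ := H556.GTwoNil.exists_sylow_equiv H hi P
  obtain ⟨k, hk, ⟨e'⟩⟩ := H556.GTwoNil.sylow_of_equiv e
      (Cfsg.Agent.ClassificationK.GTwoSylow.exists_equiv hF (Cfsg.Agent.S1059.result (F := F) rfl)) Q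
  exact H550.RV.fTwo_of_tame ((H550.RV.tame_g2 h3 hpπ).of_equiv e) hH (H556.GTwoNil.oddClosed hk hc3 P (e'.trans e1))

/-- the row for `2 ∉ π` -/
theorem rowM_g2_odd (h2 : 2 ∉ π) {p : ℕ} (hp : p.Prime)
    (hpπ : p ∉ π) {F : Type} [Field F] [Fintype F] [CharP F p] (hS : Nonempty (S ≃* chevG2.group F)) : RowM π S := by
  obtain ⟨e⟩ := hS
  have hFin : Finite ↥(chevG2.group F) := Finite.of_equiv S e.toEquiv
  have hc : ∀ t, t.Prime → t ∈ π → (t : F) ≠ 0 := fun t ht htπ =>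
    cast_ne_zero_of_char hp ht (H167.RV.ne_of_mem hpπ htπ)
  by_cases h3 : 3 ∈ π
  · refine H893.RM.rowM_of_dom fun hD => ?_
    obtain ⟨r, H, A, d⟩ := FHall.exists_HA (H167.RV.fhall_g2 h2 hpπ hD.cpi.1 e)
    have h3F : (3 : F) ≠ 0 := by exact_mod_cast hc 3 Nat.prime_three h3
    have f3 : Fact (Nat.Prime 3) := ⟨Nat.prime_three⟩
    -- `r = 3`
    have hr : r = 3 := by
      by_contra hr3
      obtain ⟨P⟩ : Nonempty (Sylow 3 H) := inferInstance
      have hPA : (P : Subgroup H).map H.subtype ≤ A := by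
        rintro _ ⟨x, hx, rfl⟩
        obtain ⟨j, hj⟩ := P.2 ⟨x, hx⟩
        have hj' : x ^ 3 ^ j = 1 := congrArg Subtype.val hj
        refine H893.RM.HA.mem_A d x.2 ?_
        have h5 : orderOf (H.subtype x) ∣ 3 ^ j := by
          rw [H.coe_subtype, Subgroup.orderOf_coe]
          exact orderOf_dvd_of_pow_eq_one hj'
        exact Nat.Coprime.coprime_dvd_left h5 (Nat.Coprime.pow_left j
          ((Nat.coprime_primes Nat.prime_three d.hr).2 (Ne.symm hr3)))
      have hi : ¬ 3 ∣ ((P : Subgroup H).map H.subtype).index := by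
        rw [Subgroup.index_map_subtype, Nat.prime_three.dvd_mul, not_or]
        exact ⟨P.not_dvd_index, d.hall.2 3 Nat.prime_three h3⟩
      let Q : Sylow 3 S := (P.2.map H.subtype).toSylow hi
      have hQA : (Q : Subgroup S) ≤ A := hPA
      have hQc : IsMulCommutative (Q : Subgroup S) :=
        ⟨⟨fun a b => Subtype.ext (d.ab a (hQA a.2) b (hQA b.2))⟩⟩
      -- transport to the group
      have h6 : H800.Sp.NotAb 3 S := H800.Sp.NotAb.of_mulEquiv e.symm (H795.NotAbRows.g2 h3F)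
      exact h6 Q hQc
    subst hr
    -- the embedding
    obtain ⟨r, n, hr, hrF, hrk, hn0, hn, hk⟩ := H129.TorusUntw.exists_closure (F := F) rfl
    have hrp : r = p := CharP.eq F hrF ‹CharP F p›
    let f : S →* ↥(chevG2.group (AlgebraicClosure F)) :=
      (emb g2T.inList (algebraMap F (AlgebraicClosure F))).comp e.toMonoidHom
    have hf : Function.Injective f := (emb_injective g2T.inList _).comp e.injective
    refine H893.RM.rowM_of_star d h3 fun t ht ht3 htA w hwH hw a haA hao hwa b hbA hbt => ?_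
    have htπ : t ∈ π := d.hall.1 t ht (htA.trans (Subgroup.card_dvd_of_le d.ale))
    have ht2 : t ≠ 2 := fun h => h2 (h ▸ htπ)
    have ht5 : 5 ≤ t := H167.RV.five_le ht ht2 ht3
    have hftt : Fact t.Prime := ⟨ht⟩
    -- the `t`-part of `A`
    let B : Subgroup S :=
      { carrier := {x | x ∈ A ∧ ∃ k, x ^ t ^ k = 1}
        one_mem' := ⟨A.one_mem, 0, one_pow _⟩
        mul_mem' := by
          rintro x y ⟨hx, i, hi⟩ ⟨hy, j, hj⟩
          refine ⟨A.mul_mem hx hy, i + j, ?_⟩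
          have hc : Commute x y := d.ab x hx y hy
          rw [hc.mul_pow, pow_add, pow_mul, hi, one_pow, one_mul, mul_comm, pow_mul, hj, one_pow]
        inv_mem' := by
          rintro x ⟨hx, i, hi⟩
          exact ⟨A.inv_mem hx, i, by rw [inv_pow, hi, inv_one]⟩ }
    have hBt : IsPGroup t B := by
      rintro ⟨x, hx, i, hi⟩
      exact ⟨i, Subtype.ext hi⟩
    obtain ⟨g, hg⟩ := exists_g_of_not_dvd g2T r hk f ht
      (fun h => hpπ (hrp ▸ h ▸ htπ)) (by rw [card_G2]; exact not_dvd_12 ht ht5) hBt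
    have hwB : Nrm w B := by
      rintro x ⟨hx, i, hi⟩
      refine ⟨(Subgroup.mem_normalizer_iff.1 (d.nor hwH) x).1 hx, i, ?_⟩
      rw [conj_pow, hi]; group
    obtain ⟨j, hj⟩ := hw
    refine comm_of_ell r hk hf hwB hg (a := a) ⟨haA, 1, ?_⟩ (t := t) ?_ ?_ ?_ hwa hj b ⟨hbA, hbt⟩
    · rw [pow_one, ← hao, pow_orderOf_eq_one]
    · exact (Nat.coprime_primes ht Nat.prime_three).2 ht3
    · rw [← hao, pow_orderOf_eq_one]
    · rintro rfl
      rw [orderOf_one] at hao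
      exact ht.one_lt.ne' hao.symm
  · refine H893.RM.rowM_good ((H167.RV.good_untw g2T (F := F)).of_equiv e) h2 fun t ht htπ _ => ⟨hc t ht htπ, ?_⟩
    rw [card_G2]
    exact not_dvd_12 ht (H167.RV.five_le ht (fun h => h2 (h ▸ htπ)) fun h => h3 (h ▸ htπ))

end Cfsg.Agent.H558.RM
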